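import Mathlib.FieldTheory.Galois.Profinite
import Mathlib.FieldTheory.Galois.Infinite
import Mathlib.FieldTheory.IsSepClosed
import Mathlib.RepresentationTheory.Homological.GroupCohomology.Hilbert90
import Mathlib.RingTheory.Trace.Basic
import Mathlib.Topology.LocallyConstant.Basic

/-!
Locally constant 1-cocycles of the absolute Galois group descend to finite Galois extensions.
-/

set_option autoImplicit false
universe u v

namespace Groth.L11.GalCoh

variable {K L : Type u} [Field K] [Field L] [Algebra K L] [IsGalois K L]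

open IntermediateField

/-- A locally constant function on the Galois group is right invariant under the subgroup fixing some finite Galois
subextension. -/
theorem exists_finite_galois_factor {α : Type v} (a : (L ≃ₐ[K] L) → α) (hlc : IsLocallyConstant a) :
    ∃ E : IntermediateField K L, FiniteDimensional K E ∧ IsGalois K E ∧
      ∀ σ τ : L ≃ₐ[K] L, τ ∈ E.fixingSubgroup → a (σ * τ) = a σ := by
  classical
  have hσ : ∀ σ : L ≃ₐ[K] L, ∃ E : IntermediateField K L, FiniteDimensional K E ∧ Normal K E ∧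
      ∀ τ ∈ E.fixingSubgroup, a (σ * τ) = a σ := fun σ => by
    have : (fun τ => σ * τ) ⁻¹' (a ⁻¹' {a σ}) ∈ nhds (1 : L ≃ₐ[K] L) :=
      ((hlc {a σ}).preimage (continuous_const_mul σ)).mem_nhds (by simp)
    obtain ⟨E, h1, h2, h3⟩ := (krullTopology_mem_nhds_one_iff_of_normal K L _).mp this
    exact ⟨E, h1, h2, fun τ hτ => h3 hτ⟩
  choose E hE1 hE2 hE3 using hσ
  obtain ⟨t, ht⟩ := isCompact_univ.elim_finite_subcover
    (fun σ : L ≃ₐ[K] L => (fun τ => σ * τ) '' ((E σ).fixingSubgroup : Set (L ≃ₐ[K] L)))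
    (fun σ => by
      haveI := hE1 σ
      exact (Homeomorph.mulLeft σ).isOpenMap _ (E σ).fixingSubgroup_isOpen)
    (fun σ _ => Set.mem_iUnion.mpr ⟨σ, 1, one_mem _, mul_one σ⟩)
  haveI : ∀ σ : {x // x ∈ t}, FiniteDimensional K (E σ) := fun σ => hE1 σ
  haveI : ∀ σ : {x // x ∈ t}, Normal K (E σ) := fun σ => hE2 σ
  refine ⟨⨆ σ : {x // x ∈ t}, E σ, inferInstance, { }, fun σ τ hτ => ?_⟩
  obtain ⟨i, hi, ρ, hρ, rfl⟩ : ∃ i ∈ t, ∃ ρ ∈ (E i).fixingSubgroup, i * ρ = σ := by
    obtain ⟨i, hi, ρ, hρ, rfl⟩ := Set.mem_iUnion₂.mp (ht (Set.mem_univ σ))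
    exact ⟨i, hi, ρ, hρ, rfl⟩
  have hτi : τ ∈ (E i).fixingSubgroup :=
    IntermediateField.fixingSubgroup_antitone (le_iSup (fun σ : {x // x ∈ t} => E σ) ⟨i, hi⟩) hτ
  rw [hE3 i ρ hρ, mul_assoc]
  exact hE3 i _ (mul_mem hρ hτi)

/-- A locally constant function which is right invariant under a normal open subgroup is left invariant under it. -/
theorem left_inv {α : Type v} (a : (L ≃ₐ[K] L) → α) (E : IntermediateField K L) [Normal K E]
    (hE : ∀ σ τ : L ≃ₐ[K] L, τ ∈ E.fixingSubgroup → a (σ * τ) = a σ) (σ τ : L ≃ₐ[K] L)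
    (hτ : τ ∈ E.fixingSubgroup) : a (τ * σ) = a σ := by
  have hN : E.fixingSubgroup.Normal := by
    rw [← IntermediateField.restrictNormalHom_ker]
    exact MonoidHom.normal_ker _
  have h := hE σ (σ⁻¹ * τ * σ⁻¹⁻¹) (hN.conj_mem τ hτ σ⁻¹)
  rwa [inv_inv, ← mul_assoc, ← mul_assoc, mul_inv_cancel, one_mul] at h

/-- Vanishing of the first continuous cohomology of the absolute Galois group in the additive group. -/
theorem exists_sub (a : (L ≃ₐ[K] L) → L)
    (ha : ∀ σ τ : L ≃ₐ[K] L, a (σ * τ) = a σ + σ (a τ)) (hlc : IsLocallyConstant a) :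
    ∃ y : L, ∀ σ : L ≃ₐ[K] L, a σ = σ y - y := by
  classical
  obtain ⟨E, hfin, hgal, hE⟩ := exists_finite_galois_factor a hlc
  have h1 : a 1 = 0 := by simpa using ha 1 1
  have hmem : ∀ σ, a σ ∈ E := fun σ => by
    rw [← InfiniteGalois.fixedField_fixingSubgroup E, IntermediateField.mem_fixedField_iff]
    intro τ hτ
    have := ha τ σ
    rwa [left_inv a E hE σ τ hτ, show a τ = a 1 by simpa using hE 1 τ hτ, h1, zero_add, eq_comm] at this
  obtain ⟨e, he⟩ := Algebra.trace_surjective K E 1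
  obtain ⟨s, hs⟩ := (AlgEquiv.restrictNormalHom_surjective (F := K) (K₁ := E) L).hasRightInverse
  have hinv : ∀ σ τ : L ≃ₐ[K] L, AlgEquiv.restrictNormalHom E σ = AlgEquiv.restrictNormalHom E τ → a σ = a τ := by
    intro σ τ h
    have hk : σ⁻¹ * τ ∈ E.fixingSubgroup := by
      rw [← IntermediateField.restrictNormalHom_ker, MonoidHom.mem_ker, map_mul, map_inv, h, inv_mul_cancel]
    rw [← hE σ _ hk, mul_inv_cancel_left]
  refine ⟨-∑ g : E ≃ₐ[K] E, a (s g) * (g e : E), fun σ => ?_⟩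
  set g₀ := AlgEquiv.restrictNormalHom E σ
  have hsum : σ (∑ g : E ≃ₐ[K] E, a (s g) * (g e : E)) = ∑ g : E ≃ₐ[K] E, (a (s g) * (g e : E) - a σ * (g e : E)) := by
    rw [map_sum]
    refine Fintype.sum_equiv (Equiv.mulLeft g₀) _ _ fun g => ?_
    have h2 : σ ((g e : E) : L) = ((g₀ * g) e : E) :=
      (AlgEquiv.restrictNormal_commutes σ E (g e)).symm
    have h3 : a (s (g₀ * g)) = a σ + σ (a (s g)) := by
      rw [← ha]
      exact hinv _ _ (by rw [hs, map_mul, hs])
    rw [Equiv.coe_mulLeft, map_mul, h2, h3]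
    ring
  have htr : (∑ g : E ≃ₐ[K] E, ((g e : E) : L)) = 1 := by
    have := trace_eq_sum_automorphisms (K := K) (L := E) e
    rw [he, map_one] at this
    have := congrArg (fun x : E => (x : L)) this
    push_cast at this
    exact this.symm
  rw [map_neg, hsum, Finset.sum_sub_distrib, ← Finset.mul_sum, htr]
  ring

/-- Hilbert 90 for the absolute Galois group. -/
theorem exists_div (a : (L ≃ₐ[K] L) → Lˣ)
    (ha : ∀ σ τ : L ≃ₐ[K] L, a (σ * τ) = a σ * σ • a τ) (hlc : IsLocallyConstant a) :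
    ∃ c : Lˣ, ∀ σ : L ≃ₐ[K] L, a σ = c⁻¹ * σ • c := by
  classical
  obtain ⟨E, hfin, hgal, hE⟩ := exists_finite_galois_factor a hlc
  have h1 : a 1 = 1 := by simpa using ha 1 1
  have hmem : ∀ σ, (a σ : L) ∈ E := fun σ => by
    rw [← InfiniteGalois.fixedField_fixingSubgroup E, IntermediateField.mem_fixedField_iff]
    intro τ hτ
    have := ha τ σ
    rw [left_inv a E hE σ τ hτ, show a τ = a 1 by simpa using hE 1 τ hτ, h1, one_mul] at this
    exact (congrArg Units.val this).symm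
  have hmem0 : ∀ σ, (⟨(a σ : L), hmem σ⟩ : E) ≠ 0 := fun σ h => (a σ).ne_zero (congrArg Subtype.val h)
  obtain ⟨s, hs⟩ := (AlgEquiv.restrictNormalHom_surjective (F := K) (K₁ := E) L).hasRightInverse
  have hinv : ∀ σ τ : L ≃ₐ[K] L, AlgEquiv.restrictNormalHom E σ = AlgEquiv.restrictNormalHom E τ → a σ = a τ := by
    intro σ τ h
    have hk : σ⁻¹ * τ ∈ E.fixingSubgroup := by
      rw [← IntermediateField.restrictNormalHom_ker, MonoidHom.mem_ker, map_mul, map_inv, h, inv_mul_cancel]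
    rw [← hE σ _ hk, mul_inv_cancel_left]
  let f : (E ≃ₐ[K] E) → Eˣ := fun g => Units.mk0 ⟨(a (s g) : L), hmem _⟩ (hmem0 _)
  have hf : groupCohomology.IsMulCocycle₁ f := fun g h => by
    refine Units.ext (Subtype.ext ?_)
    have h3 : a (s (g * h)) = a (s g) * s g • a (s h) := by
      rw [← ha]
      exact hinv _ _ (by rw [hs, map_mul, hs, hs])
    have h4 : ((g ⟨(a (s h) : L), hmem _⟩ : E) : L) = s g (a (s h) : L) := by
      conv_lhs => rw [← hs g]
      exact AlgEquiv.restrictNormal_commutes (s g) E _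
    change (a (s (g * h)) : L) = ((g ⟨(a (s h) : L), hmem _⟩ : E) : L) * (a (s g) : L)
    rw [h3, h4, Units.val_mul, mul_comm]
    rfl
  obtain ⟨β, hβ⟩ := groupCohomology.isMulCoboundary₁_of_isMulCocycle₁_of_aut_to_units f hf
  refine ⟨Units.map (algebraMap E L).toMonoidHom β, fun σ => ?_⟩
  have hb := congrArg (fun x : Eˣ => ((x : E) : L)) (hβ (AlgEquiv.restrictNormalHom E σ))
  refine Units.ext ?_
  have hc : (f (AlgEquiv.restrictNormalHom E σ) : L) = (a σ : L) :=
    congrArg Units.val (hinv _ _ (hs _))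
  rw [← hc, ← hb, div_eq_mul_inv]
  simp only [Units.val_mul, Units.val_inv_eq_inv_val, AlgEquiv.smul_units_def, Units.coe_map, MonoidHom.coe_coe]
  push_cast
  rw [mul_comm]
  congr 1
  exact AlgEquiv.restrictNormal_commutes σ E (β : E)

end Groth.L11.GalCoh
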