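import Mathlib.LinearAlgebra.TensorProduct.Basis
import Mathlib.LinearAlgebra.Dual.Lemmas
import Mathlib.LinearAlgebra.FiniteDimensional.Lemmas
import Mathlib.RepresentationTheory.Basic
import Mathlib.Algebra.Field.ZMod
import Mathlib.Data.ZMod.Basic

/-! Splitting of `S²V → Λ²V` over the field with two elements. -/

set_option autoImplicit false
universe u v w

open TensorProduct

namespace Groth.L11.SymSq

local notation "𝔽₂" => ZMod 2

variable {V : Type v} [AddCommGroup V] [Module 𝔽₂ V]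

/-- The span of the `v ⊗ v`. -/
abbrev Na (V : Type v) [AddCommGroup V] [Module 𝔽₂ V] : Submodule 𝔽₂ (V ⊗[𝔽₂] V) :=
  Submodule.span 𝔽₂ (Set.range fun v : V => v ⊗ₜ[𝔽₂] v)

/-- The span of the `x ⊗ y + y ⊗ x`. -/
abbrev Ns (V : Type v) [AddCommGroup V] [Module 𝔽₂ V] : Submodule 𝔽₂ (V ⊗[𝔽₂] V) :=
  Submodule.span 𝔽₂ (Set.range fun p : V × V => p.1 ⊗ₜ[𝔽₂] p.2 + p.2 ⊗ₜ[𝔽₂] p.1)

theorem zmod2 : ∀ a : 𝔽₂, a = 0 ∨ a = 1 := by decide

theorem Ns_le_Na : Ns V ≤ Na V := by
  rw [Submodule.span_le]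
  rintro _ ⟨⟨x, y⟩, rfl⟩
  have h : x ⊗ₜ[𝔽₂] y + y ⊗ₜ[𝔽₂] x = (x + y) ⊗ₜ[𝔽₂] (x + y) - x ⊗ₜ[𝔽₂] x - y ⊗ₜ[𝔽₂] y := by
    simp only [TensorProduct.add_tmul, TensorProduct.tmul_add]; abel
  simp only [SetLike.mem_coe, h]
  exact Submodule.sub_mem _ (Submodule.sub_mem _ (Submodule.subset_span ⟨_, rfl⟩) (Submodule.subset_span ⟨_, rfl⟩))
    (Submodule.subset_span ⟨_, rfl⟩)

variable {ι : Type w} (b : Module.Basis ι 𝔽₂ V)

theorem coeff_symm {t : V ⊗[𝔽₂] V} (ht : t ∈ Na V) (i j : ι) :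
    (b.tensorProduct b).repr t (i, j) = (b.tensorProduct b).repr t (j, i) := by
  induction ht using Submodule.span_induction with
  | mem x hx => obtain ⟨v, rfl⟩ := hx; simp [mul_comm]
  | zero => simp
  | add x y _ _ hx hy => simp [hx, hy]
  | smul a x _ hx => simp [hx]

theorem coeff_diag {t : V ⊗[𝔽₂] V} (ht : t ∈ Ns V) (i : ι) : (b.tensorProduct b).repr t (i, i) = 0 := by
  induction ht using Submodule.span_induction with
  | mem x hx =>
    obtain ⟨⟨p, q⟩, rfl⟩ := hx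
    simp [mul_comm (b.repr p i), CharTwo.add_self_eq_zero]
  | zero => simp
  | add x y _ _ hx hy => simp [hx, hy]
  | smul a x _ hx => simp [hx]

theorem mem_Ns_of_symm {t : V ⊗[𝔽₂] V}
    (hs : ∀ i j, (b.tensorProduct b).repr t (i, j) = (b.tensorProduct b).repr t (j, i))
    (hd : ∀ i, (b.tensorProduct b).repr t (i, i) = 0) : t ∈ Ns V := by
  classical
  generalize hn : ((b.tensorProduct b).repr t).support.card = n
  induction n using Nat.strong_induction_on generalizing t with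
  | _ n ih =>
    set B := b.tensorProduct b with hB
    rcases eq_or_ne t 0 with rfl | ht0
    · exact Submodule.zero_mem _
    obtain ⟨⟨i, j⟩, hij⟩ : (B.repr t).support.Nonempty := Finsupp.support_nonempty_iff.2 (by simpa using ht0)
    have hij' := Finsupp.mem_support_iff.1 hij
    have hne : i ≠ j := fun h => hij' (by subst h; exact hd i)
    have h1 : B.repr t (i, j) = 1 := (zmod2 (B.repr t (i, j))).resolve_left hij'
    let e : V ⊗[𝔽₂] V := b i ⊗ₜ[𝔽₂] b j + b j ⊗ₜ[𝔽₂] b i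
    have hcoef : ∀ p q : ι, B.repr (t - e) (p, q) =
        if (p, q) = (i, j) ∨ (p, q) = (j, i) then 0 else B.repr t (p, q) := by
      intro p q
      have he : B.repr e = Finsupp.single (i, j) 1 + Finsupp.single (j, i) 1 := by
        rw [map_add]
        congr 1 <;> rw [← Module.Basis.tensorProduct_apply, B.repr_self]
      rw [map_sub, Finsupp.sub_apply, he, Finsupp.add_apply, Finsupp.single_apply, Finsupp.single_apply]
      by_cases ha : (p, q) = (i, j)
      · obtain ⟨rfl, rfl⟩ := Prod.mk.inj ha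
        rw [if_pos rfl, if_neg (fun h => hne (Prod.mk.inj h).2), if_pos (Or.inl rfl), h1]; simp
      · by_cases hb : (p, q) = (j, i)
        · obtain ⟨rfl, rfl⟩ := Prod.mk.inj hb
          rw [if_neg (Ne.symm ha), if_pos rfl, if_pos (Or.inr rfl), hs, h1]; simp
        · rw [if_neg (Ne.symm ha), if_neg (Ne.symm hb), if_neg (by simp [ha, hb])]; simp
    have hlt : (B.repr (t - e)).support.card < n := by
      rw [← hn]
      refine Finset.card_lt_card (Finset.ssubset_iff_of_subset ?_ |>.2 ⟨(i, j), hij, ?_⟩)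
      · rintro ⟨p, q⟩ h
        rw [Finsupp.mem_support_iff, hcoef] at h
        rw [Finsupp.mem_support_iff]
        split_ifs at h <;> first | exact h | exact absurd rfl h
      · rw [Finsupp.notMem_support_iff, hcoef, if_pos (Or.inl rfl)]
    have key : t - e ∈ Ns V := by
      refine ih _ hlt (fun p q => ?_) (fun p => ?_) rfl
      · rw [hcoef, hcoef, hs p q]
        refine if_congr ?_ rfl rfl
        simp only [Prod.mk.injEq]; tauto
      · rw [hcoef, hd, ite_self]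
    have : t = (t - e) + e := (sub_add_cancel t e).symm
    rw [this]
    exact Submodule.add_mem _ key (Submodule.subset_span ⟨(b i, b j), rfl⟩)

variable {G : Type u} [Group G] (ρ : Representation 𝔽₂ G V)

theorem map_Ns (g : G) {t : V ⊗[𝔽₂] V} (ht : t ∈ Ns V) : ρ.tprod ρ g t ∈ Ns V := by
  induction ht using Submodule.span_induction with
  | mem x hx => obtain ⟨⟨p, q⟩, rfl⟩ := hx; exact Submodule.subset_span ⟨(ρ g p, ρ g q), by simp⟩
  | zero => simp
  | add x y _ _ hx hy => rw [map_add]; exact Submodule.add_mem _ hx hy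
  | smul a x _ hx => rw [map_smul]; exact Submodule.smul_mem _ a hx

theorem map_Na (g : G) {t : V ⊗[𝔽₂] V} (ht : t ∈ Na V) : ρ.tprod ρ g t ∈ Na V := by
  induction ht using Submodule.span_induction with
  | mem x hx => obtain ⟨p, rfl⟩ := hx; exact Submodule.subset_span ⟨ρ g p, by simp⟩
  | zero => simp
  | add x y _ _ hx hy => rw [map_add]; exact Submodule.add_mem _ hx hy
  | smul a x _ hx => rw [map_smul]; exact Submodule.smul_mem _ a hx

theorem injective_rho (g : G) : Function.Injective (ρ g) := fun a a' h => by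
  simpa [← LinearMap.comp_apply, ← Module.End.mul_eq_comp, ← map_mul] using congrArg (ρ g⁻¹) h

theorem exists_splitting_of_permutation (hb : ∀ g : G, ∀ i : ι, ∃ j : ι, ρ g (b i) = b j) :
    ∃ W : Submodule 𝔽₂ (V ⊗[𝔽₂] V),
      (∀ g : G, ∀ w ∈ W, ρ.tprod ρ g w ∈ W) ∧ W ⊓ Na V = Ns V ∧ W ⊔ Na V = ⊤ := by
  classical
  let S : Set (V ⊗[𝔽₂] V) := {t | ∃ i j, i ≠ j ∧ b i ⊗ₜ[𝔽₂] b j = t}
  refine ⟨Ns V ⊔ Submodule.span 𝔽₂ S, fun g w hw => ?_, ?_, ?_⟩
  · obtain ⟨x, hx, y, hy, rfl⟩ := Submodule.mem_sup.1 hw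
    rw [map_add]
    refine Submodule.add_mem_sup (map_Ns ρ g hx) ?_
    clear hw
    induction hy using Submodule.span_induction with
    | mem z hz =>
      obtain ⟨i, j, hij, rfl⟩ := hz
      obtain ⟨i', hi'⟩ := hb g i
      obtain ⟨j', hj'⟩ := hb g j
      refine Submodule.subset_span ⟨i', j', fun h => hij (b.injective (injective_rho ρ g (by rw [hi', hj', h]))), ?_⟩
      simp [hi', hj']
    | zero => simp
    | add x y _ _ hx hy => rw [map_add]; exact Submodule.add_mem _ hx hy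
    | smul a x _ hx => rw [map_smul]; exact Submodule.smul_mem _ a hx
  · refine le_antisymm ?_ (le_inf le_sup_left Ns_le_Na)
    rintro t ⟨htW, hta⟩
    refine mem_Ns_of_symm b (coeff_symm b hta) fun i => ?_
    obtain ⟨x, hx, y, hy, rfl⟩ := Submodule.mem_sup.1 htW
    rw [map_add, Finsupp.add_apply, coeff_diag b hx i, zero_add]
    clear htW hta
    induction hy using Submodule.span_induction with
    | mem z hz =>
      obtain ⟨p, q, hpq, rfl⟩ := hz
      rw [← Module.Basis.tensorProduct_apply, Module.Basis.repr_self, Finsupp.single_apply,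
        if_neg (fun h => hpq ((Prod.mk.inj h).1.trans (Prod.mk.inj h).2.symm))]
    | zero => simp
    | add x y _ _ hx hy => simp [hx, hy]
    | smul a x _ hx => simp [hx]
  · rw [eq_top_iff, ← (b.tensorProduct b).span_eq, Submodule.span_le]
    rintro _ ⟨⟨i, j⟩, rfl⟩
    rw [Module.Basis.tensorProduct_apply]
    by_cases h : i = j
    · subst h
      exact Submodule.mem_sup_right (Submodule.subset_span ⟨b i, rfl⟩)
    · exact Submodule.mem_sup_left (Submodule.mem_sup_right (Submodule.subset_span ⟨i, j, h, rfl⟩))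

omit b in
/-- `u⊗u + u⊗v + v⊗v` -/
def q (x y : V) : V ⊗[𝔽₂] V := x ⊗ₜ[𝔽₂] x + x ⊗ₜ[𝔽₂] y + y ⊗ₜ[𝔽₂] y

theorem q_sub_mem (x y : V) {a b c d : 𝔽₂}
    (h1 : a ≠ 0 ∨ b ≠ 0) (h2 : c ≠ 0 ∨ d ≠ 0) (h3 : a ≠ c ∨ b ≠ d) :
    q (a • x + b • y) (c • x + d • y) - q x y ∈ Ns V := by
  have h : a * a + a * c + c * c = 1 ∧ b * b + b * d + d * d = 1 ∧
      a * b + a * d + c * d = 1 + (a * b + c * b + c * d) := by
    revert a b c d; decide
  obtain ⟨hA, hB, hC⟩ := h
  have e : q (a • x + b • y) (c • x + d • y) - q x y = (a * b + c * b + c * d) • (x ⊗ₜ[𝔽₂] y + y ⊗ₜ[𝔽₂] x) := by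
    have : q (a • x + b • y) (c • x + d • y) =
        (a * a + a * c + c * c) • (x ⊗ₜ[𝔽₂] x) + (a * b + a * d + c * d) • (x ⊗ₜ[𝔽₂] y) +
        (a * b + c * b + c * d) • (y ⊗ₜ[𝔽₂] x) + (b * b + b * d + d * d) • (y ⊗ₜ[𝔽₂] y) := by
      simp only [q, TensorProduct.add_tmul, TensorProduct.tmul_add, ← TensorProduct.smul_tmul', TensorProduct.tmul_smul,
        smul_smul, smul_add]
      module
    rw [this, hA, hB, hC, q]
    module
  rw [e]
  exact Submodule.smul_mem _ _ (Submodule.subset_span ⟨(x, y), rfl⟩)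

theorem exists_splitting_two (hV : Module.finrank 𝔽₂ V = 2) :
    ∃ W : Submodule 𝔽₂ (V ⊗[𝔽₂] V),
      (∀ g : G, ∀ w ∈ W, ρ.tprod ρ g w ∈ W) ∧ W ⊓ Na V = Ns V ∧ W ⊔ Na V = ⊤ := by
  haveI : Module.Finite 𝔽₂ V := Module.finite_of_finrank_eq_succ hV
  let b : Module.Basis (Fin 2) 𝔽₂ V := (Module.finBasis 𝔽₂ V).reindex (finCongr hV)
  refine ⟨Ns V ⊔ Submodule.span 𝔽₂ {q (b 0) (b 1)}, fun g w hw => ?_, ?_, ?_⟩
  · obtain ⟨x, hx, y, hy, rfl⟩ := Submodule.mem_sup.1 hw
    obtain ⟨r, rfl⟩ := Submodule.mem_span_singleton.1 hy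
    rw [map_add, map_smul]
    refine Submodule.add_mem _ (Submodule.mem_sup_left (map_Ns ρ g hx)) (Submodule.smul_mem _ _ ?_)
    have hu : ∀ v, ρ g v = b.repr (ρ g v) 0 • b 0 + b.repr (ρ g v) 1 • b 1 := fun v => by
      conv_lhs => rw [← b.sum_repr (ρ g v), Fin.sum_univ_two]
    have hnz : ∀ v, v ≠ 0 → b.repr (ρ g v) 0 ≠ 0 ∨ b.repr (ρ g v) 1 ≠ 0 := fun v hv => by
      by_contra! h
      exact hv (injective_rho ρ g ((hu v).trans (by rw [h.1, h.2]; simp)))
    have hne : b.repr (ρ g (b 0)) 0 ≠ b.repr (ρ g (b 1)) 0 ∨ b.repr (ρ g (b 0)) 1 ≠ b.repr (ρ g (b 1)) 1 := by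
      by_contra! h
      exact absurd (b.injective (injective_rho ρ g ((hu (b 0)).trans (by rw [h.1, h.2]; exact (hu (b 1)).symm)))) (by decide)
    have hq : ρ.tprod ρ g (q (b 0) (b 1)) = q (ρ g (b 0)) (ρ g (b 1)) := by simp [q]
    rw [hq]
    have h3 := q_sub_mem (b 0) (b 1) (hnz _ (b.ne_zero 0)) (hnz _ (b.ne_zero 1)) hne
    rw [← hu (b 0), ← hu (b 1)] at h3
    have h4 := Submodule.add_mem_sup h3 (Submodule.mem_span_singleton_self (R := 𝔽₂) (q (b 0) (b 1)))
    rwa [sub_add_cancel] at h4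
  · refine le_antisymm ?_ (le_inf le_sup_left Ns_le_Na)
    rintro t ⟨htW, hta⟩
    obtain ⟨x, hx, y, hy, rfl⟩ := Submodule.mem_sup.1 htW
    obtain ⟨r, rfl⟩ := Submodule.mem_span_singleton.1 hy
    have h := coeff_symm b hta 0 1
    rw [map_add, Finsupp.add_apply, Finsupp.add_apply, coeff_symm b (Ns_le_Na hx) 0 1, map_smul] at h
    simp [q] at h
    rw [h, zero_smul, add_zero]
    exact hx
  · rw [eq_top_iff, ← (b.tensorProduct b).span_eq, Submodule.span_le]
    rintro _ ⟨⟨i, j⟩, rfl⟩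
    rw [Module.Basis.tensorProduct_apply]
    have haa : ∀ v : V, v ⊗ₜ[𝔽₂] v ∈ (Ns V ⊔ Submodule.span 𝔽₂ {q (b 0) (b 1)}) ⊔ Na V := fun v =>
      Submodule.mem_sup_right (Submodule.subset_span ⟨v, rfl⟩)
    have hab : b 0 ⊗ₜ[𝔽₂] b 1 ∈ (Ns V ⊔ Submodule.span 𝔽₂ {q (b 0) (b 1)}) ⊔ Na V := by
      have : b 0 ⊗ₜ[𝔽₂] b 1 = q (b 0) (b 1) - b 0 ⊗ₜ[𝔽₂] b 0 - b 1 ⊗ₜ[𝔽₂] b 1 := by simp only [q]; abel
      rw [this]
      exact Submodule.sub_mem _ (Submodule.sub_mem _ (Submodule.mem_sup_left (Submodule.mem_sup_right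
        (Submodule.subset_span rfl))) (haa _)) (haa _)
    have hba : b 1 ⊗ₜ[𝔽₂] b 0 ∈ (Ns V ⊔ Submodule.span 𝔽₂ {q (b 0) (b 1)}) ⊔ Na V := by
      rw [show b 1 ⊗ₜ[𝔽₂] b 0 = (b 0 ⊗ₜ[𝔽₂] b 1 + b 1 ⊗ₜ[𝔽₂] b 0) - b 0 ⊗ₜ[𝔽₂] b 1 by abel]
      exact Submodule.sub_mem _ (Submodule.mem_sup_left (Submodule.mem_sup_left (Submodule.subset_span ⟨(b 0, b 1), rfl⟩))) hab
    fin_cases i <;> fin_cases j <;> first | exact haa _ | exact hab | exact hba

theorem exists_invariant_lift_three (hV : Module.finrank 𝔽₂ V = 3) (t : V ⊗[𝔽₂] V)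
    (ht : ∀ g : G, ρ.tprod ρ g t - t ∈ Na V) :
    ∃ t', t' - t ∈ Na V ∧ ∀ g : G, ρ.tprod ρ g t' - t' ∈ Ns V := by
  classical
  haveI : Module.Finite 𝔽₂ V := Module.finite_of_finrank_eq_succ hV
  let b : Module.Basis (Fin 3) 𝔽₂ V := (Module.finBasis 𝔽₂ V).reindex (finCongr hV)
  have hsw : ∀ p r : V, p ⊗ₜ[𝔽₂] r - r ⊗ₜ[𝔽₂] p ∈ Na V := fun p r => by
    rw [sub_eq_add_neg, show -(r ⊗ₜ[𝔽₂] p) = r ⊗ₜ[𝔽₂] p from by
      rw [neg_eq_iff_add_eq_zero, ← two_smul 𝔽₂, show (2 : 𝔽₂) = 0 from rfl, zero_smul]]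
    exact Ns_le_Na (Submodule.subset_span ⟨(p, r), rfl⟩)
  -- a decomposable representative
  obtain ⟨x, y, hxy⟩ : ∃ x y : V, x ⊗ₜ[𝔽₂] y - t ∈ Na V := by
    let c : Fin 3 → Fin 3 → 𝔽₂ := fun i j => (b.tensorProduct b).repr t (i, j)
    let C01 := c 0 1 + c 1 0
    let C02 := c 0 2 + c 2 0
    let C12 := c 1 2 + c 2 1
    have hbase : C01 • (b 0 ⊗ₜ[𝔽₂] b 1) + C02 • (b 0 ⊗ₜ[𝔽₂] b 2) + C12 • (b 1 ⊗ₜ[𝔽₂] b 2) - t ∈ Na V := by
      have hdiag : ∀ i : Fin 3, b i ⊗ₜ[𝔽₂] b i ∈ Na V := fun i => Submodule.subset_span ⟨b i, rfl⟩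
      have e : t = ∑ i, ∑ j, c i j • (b i ⊗ₜ[𝔽₂] b j) := by
        conv_lhs => rw [← (b.tensorProduct b).sum_repr t, Fintype.sum_prod_type]
        simp [c]
      conv in _ - t => rw [e]
      simp only [Fin.sum_univ_three, C01, C02, C12, add_smul]
      have h := Submodule.sub_mem (Na V) (Submodule.add_mem _ (Submodule.add_mem _ (Submodule.smul_mem _ (c 1 0) (hsw (b 0) (b 1)))
        (Submodule.smul_mem _ (c 2 0) (hsw (b 0) (b 2)))) (Submodule.smul_mem _ (c 2 1) (hsw (b 1) (b 2))))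
        (Submodule.add_mem _ (Submodule.add_mem _ (Submodule.smul_mem _ (c 0 0) (hdiag 0)) (Submodule.smul_mem _ (c 1 1) (hdiag 1)))
          (Submodule.smul_mem _ (c 2 2) (hdiag 2)))
      convert h using 1
      simp only [smul_sub]; abel
    rcases zmod2 C01 with h | h
    · refine ⟨C02 • b 0 + C12 • b 1, b 2, ?_⟩
      rw [show C01 • (b 0 ⊗ₜ[𝔽₂] b 1) + C02 • (b 0 ⊗ₜ[𝔽₂] b 2) + C12 • (b 1 ⊗ₜ[𝔽₂] b 2) =
        (C02 • b 0 + C12 • b 1) ⊗ₜ[𝔽₂] b 2 by
          rw [show C01 = 0 from h]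
          simp [TensorProduct.add_tmul, ← TensorProduct.smul_tmul']] at hbase
      exact hbase
    · refine ⟨b 0 + C12 • b 2, b 1 + C02 • b 2, ?_⟩
      have e : (b 0 + C12 • b 2) ⊗ₜ[𝔽₂] (b 1 + C02 • b 2) - t =
          (C01 • (b 0 ⊗ₜ[𝔽₂] b 1) + C02 • (b 0 ⊗ₜ[𝔽₂] b 2) + C12 • (b 1 ⊗ₜ[𝔽₂] b 2) - t) +
            (C12 • (b 2 ⊗ₜ[𝔽₂] b 1 - b 1 ⊗ₜ[𝔽₂] b 2) + (C12 * C02) • (b 2 ⊗ₜ[𝔽₂] b 2)) := by
        rw [show C01 = 1 from h]
        simp only [TensorProduct.add_tmul, TensorProduct.tmul_add, ← TensorProduct.smul_tmul', TensorProduct.tmul_smul,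
          smul_smul, smul_sub, one_smul]
        module
      rw [e]
      exact Submodule.add_mem _ hbase (Submodule.add_mem _ (Submodule.smul_mem _ _ (hsw _ _))
        (Submodule.smul_mem _ _ (Submodule.subset_span ⟨b 2, rfl⟩)))
  by_cases hli : LinearIndependent 𝔽₂ ![x, y]
  · refine ⟨q x y, ?_, fun g => ?_⟩
    · rw [show q x y - t = x ⊗ₜ[𝔽₂] x + y ⊗ₜ[𝔽₂] y + (x ⊗ₜ[𝔽₂] y - t) by simp only [q]; abel]
      exact Submodule.add_mem _ (Submodule.add_mem _ (Submodule.subset_span ⟨x, rfl⟩) (Submodule.subset_span ⟨y, rfl⟩)) hxy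
    · have hq : ρ.tprod ρ g (q x y) = q (ρ g x) (ρ g y) := by simp [q]
      rw [hq]
      set u := ρ g x
      set w := ρ g y
      have hg : u ⊗ₜ[𝔽₂] w - x ⊗ₜ[𝔽₂] y ∈ Na V := by
        have h1 : ρ.tprod ρ g (x ⊗ₜ[𝔽₂] y - t) ∈ Na V := map_Na ρ g hxy
        have h2 := Submodule.sub_mem _ (Submodule.add_mem _ h1 (ht g)) hxy
        convert h2 using 1
        rw [map_sub]; simp [u, w]
      have huw : ∀ r s : 𝔽₂, r • u + s • w = 0 → r = 0 ∧ s = 0 := fun r s h => by
        refine LinearIndependent.pair_iff.1 hli r s (injective_rho ρ g ?_)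
        simpa [u, w] using h
      have hmem : u ∈ Submodule.span 𝔽₂ {x, y} ∧ w ∈ Submodule.span 𝔽₂ {x, y} := by
        by_contra hcon
        obtain ⟨l, hlam, hker⟩ : ∃ l : V →ₗ[𝔽₂] 𝔽₂, (l u ≠ 0 ∨ l w ≠ 0) ∧ Submodule.map l (Submodule.span 𝔽₂ {x, y}) = ⊥ := by
          rw [not_and_or] at hcon
          rcases hcon with h | h
          · obtain ⟨l, h1, h2⟩ := Submodule.exists_dual_map_eq_bot_of_notMem h inferInstance
            exact ⟨l, Or.inl h1, h2⟩
          · obtain ⟨l, h1, h2⟩ := Submodule.exists_dual_map_eq_bot_of_notMem h inferInstance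
            exact ⟨l, Or.inr h1, h2⟩
        have hl : ∀ z ∈ Submodule.span 𝔽₂ {x, y}, l z = 0 := fun z hz =>
          (Submodule.mem_bot 𝔽₂).1 (hker ▸ Submodule.mem_map_of_mem hz)
        let D : V ⊗[𝔽₂] V →ₗ[𝔽₂] V :=
          (TensorProduct.lid 𝔽₂ V).toLinearMap ∘ₗ TensorProduct.map l LinearMap.id -
            (TensorProduct.rid 𝔽₂ V).toLinearMap ∘ₗ TensorProduct.map LinearMap.id l
        have hD : ∀ z ∈ Na V, D z = 0 := fun z hz => by
          induction hz using Submodule.span_induction with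
          | mem z hz => obtain ⟨v, rfl⟩ := hz; simp [D]
          | zero => simp
          | add a c _ _ ha hc => simp [ha, hc]
          | smul r a _ ha => simp [ha]
        have h0 := hD _ hg
        simp [D, hl x (Submodule.subset_span (by simp)), hl y (Submodule.subset_span (by simp))] at h0
        rw [sub_eq_add_neg, ← neg_smul] at h0
        obtain ⟨e2, e1⟩ := huw (-l w) (l u) (by rwa [add_comm])
        exact hlam.elim (fun h => h e1) (fun h => h (neg_eq_zero.1 e2))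
      obtain ⟨a, c, hac⟩ := Submodule.mem_span_pair.1 hmem.1
      obtain ⟨a', c', hac'⟩ := Submodule.mem_span_pair.1 hmem.2
      rw [← hac, ← hac']
      refine q_sub_mem x y ?_ ?_ ?_
      · by_contra! h
        exact one_ne_zero (huw 1 0 (by rw [← hac, h.1, h.2]; simp)).1
      · by_contra! h
        exact one_ne_zero (huw 0 1 (by rw [← hac', h.1, h.2]; simp)).2
      · by_contra! h
        have : u = w := by rw [← hac, ← hac', h.1, h.2]
        exact one_ne_zero (huw 1 1 (by rw [this, ← two_smul 𝔽₂, show (2 : 𝔽₂) = 0 from rfl, zero_smul])).1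
  · refine ⟨0, ?_, fun g => by simp⟩
    have hz : x ⊗ₜ[𝔽₂] y ∈ Na V := by
      rw [LinearIndependent.pair_iff] at hli
      push Not at hli
      obtain ⟨r, s, hrs, hne⟩ := hli
      rcases zmod2 s with hs | hs
      · have hr : r = 1 := (zmod2 r).resolve_left fun h => hne h hs
        rw [hs, hr, zero_smul, one_smul, add_zero] at hrs
        rw [hrs, TensorProduct.zero_tmul]
        exact Submodule.zero_mem _
      · rw [show s = (1 : 𝔽₂) from hs, one_smul, add_comm, ← eq_neg_iff_add_eq_zero] at hrs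
        rw [hrs, ← neg_smul, TensorProduct.tmul_smul]
        exact Submodule.smul_mem _ _ (Submodule.subset_span ⟨x, rfl⟩)
    have := Submodule.sub_mem _ hxy hz
    simpa using this

/-- A representation of a group of order two over `𝔽₂` permutes some basis. -/
theorem exists_permuted_basis [Module.Finite 𝔽₂ V] (hG : Nat.card G = 2) :
    ∃ (ι : Type v) (b : Module.Basis ι 𝔽₂ V), ∀ g : G, ∀ i : ι, ∃ j : ι, ρ g (b i) = b j := by
  classical
  haveI : Finite G := Nat.finite_of_card_ne_zero (by omega)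
  obtain ⟨σ, hσ, hall⟩ : ∃ σ : G, σ * σ = 1 ∧ ∀ g : G, g = 1 ∨ g = σ := by
    obtain ⟨a, c, hac, hu⟩ := Nat.card_eq_two_iff.1 hG
    have hm : ∀ g : G, g = a ∨ g = c := fun g => by
      have := Set.eq_univ_iff_forall.1 hu g
      simpa using this
    rcases hm 1 with h | h
    · refine ⟨c, ?_, fun g => h ▸ hm g⟩
      rcases hm (c * c) with h' | h'
      · exact h'.trans h.symm
      · exact absurd (h.symm.trans (mul_eq_left.1 h').symm) hac
    · refine ⟨a, ?_, fun g => h ▸ (hm g).symm⟩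
      rcases hm (a * a) with h' | h'
      · exact absurd ((mul_eq_left.1 h').trans h) hac
      · exact h'.trans h.symm
  let s : V →ₗ[𝔽₂] V := ρ σ
  have hss : ∀ v, s (s v) = v := fun v => by
    change (ρ σ * ρ σ) v = v
    rw [← map_mul, hσ, map_one]; rfl
  let N : V →ₗ[𝔽₂] V := s + LinearMap.id
  have h2 : ∀ v : V, v + v = 0 := fun v => by
    rw [← two_smul 𝔽₂, show (2 : 𝔽₂) = 0 from rfl, zero_smul]
  have hNN : ∀ v, N (N v) = 0 := fun v => by
    simp only [N, LinearMap.add_apply, LinearMap.id_apply, map_add, hss]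
    rw [show v + s v + (s v + v) = (v + v) + (s v + s v) by abel, h2, h2, add_zero]
  obtain ⟨U, hU⟩ := (LinearMap.ker N).exists_isCompl
  obtain ⟨T', hT'⟩ := (Submodule.comap (LinearMap.ker N).subtype (U.map N)).exists_isCompl
  let bU := Module.finBasis 𝔽₂ U
  let bT := Module.finBasis 𝔽₂ T'
  let κ := Fin (Module.finrank 𝔽₂ U)
  let μ := Fin (Module.finrank 𝔽₂ T')
  let v : (κ × Bool) ⊕ μ → V := Sum.elim
    (fun p => if p.2 then s (bU p.1 : V) else (bU p.1 : V)) (fun m => ((bT m : LinearMap.ker N) : V))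
  have hNU : Set.InjOn N U := fun a ha c hc h => sub_eq_zero.1 <|
    (Submodule.disjoint_def.1 hU.disjoint.symm) _ (Submodule.sub_mem _ ha hc) (by rw [LinearMap.mem_ker, map_sub, h, sub_self])
  have hli : LinearIndependent 𝔽₂ v := by
    rw [Fintype.linearIndependent_iff]
    intro c hc
    simp only [v, Fintype.sum_sum_type, Sum.elim_inl, Sum.elim_inr, Fintype.sum_prod_type, Fintype.sum_bool, if_true,
      Bool.false_eq_true, if_false, Finset.sum_add_distrib] at hc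
    set A : U := ∑ i, c (Sum.inl (i, true)) • bU i with hA
    set B : U := ∑ i, c (Sum.inl (i, false)) • bU i with hB
    set C : T' := ∑ m, c (Sum.inr m) • bT m with hC
    have e : s (A : V) + (B : V) + ((C : LinearMap.ker N) : V) = 0 := by
      rw [← hc]; simp [A, B, C, map_sum, Submodule.coe_sum]
    have e' : N (A : V) + (((A + B : U)) : V) + ((C : LinearMap.ker N) : V) = 0 := by
      rw [← e]
      simp only [N, LinearMap.add_apply, LinearMap.id_apply, Submodule.coe_add]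
      rw [show s (A : V) + A + (A + B) + ((C : LinearMap.ker N) : V) = s A + B + ((C : LinearMap.ker N) : V) + ((A : V) + A) by abel,
        h2, add_zero]
    have hAB : A + B = 0 := Subtype.ext <| (Submodule.disjoint_def.1 hU.disjoint.symm) _ (A + B).2 (by
      have : (((A + B : U)) : V) = -(N (A : V) + ((C : LinearMap.ker N) : V)) :=
        eq_neg_of_add_eq_zero_left (by rw [← e']; abel)
      rw [this]
      exact Submodule.neg_mem _ (Submodule.add_mem _ (LinearMap.mem_ker.2 (hNN _)) (C : LinearMap.ker N).2))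
    rw [hAB, Submodule.coe_zero, add_zero] at e'
    have hC0 : (C : LinearMap.ker N) = 0 := by
      refine (Submodule.disjoint_def.1 hT'.disjoint) _ ?_ C.2
      rw [Submodule.mem_comap, Submodule.subtype_apply, ← neg_eq_of_add_eq_zero_right e']
      exact Submodule.neg_mem _ (Submodule.mem_map_of_mem A.2)
    rw [hC0, Submodule.coe_zero, add_zero] at e'
    have hA0 : A = 0 := Subtype.ext (hNU A.2 U.zero_mem (by rw [e']; simp))
    have hB0 : B = 0 := by rwa [hA0, zero_add] at hAB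
    rintro (⟨i, bb⟩ | m)
    · cases bb
      · exact Fintype.linearIndependent_iff.1 bU.linearIndependent _ hB0 i
      · exact Fintype.linearIndependent_iff.1 bU.linearIndependent _ hA0 i
    · exact Fintype.linearIndependent_iff.1 bT.linearIndependent _ (show C = 0 from Subtype.ext hC0) m
  have hspan : ⊤ ≤ Submodule.span 𝔽₂ (Set.range v) := by
    have hUle : U ≤ Submodule.span 𝔽₂ (Set.range v) ∧ U.map N ≤ Submodule.span 𝔽₂ (Set.range v) := by
      have h1 : ∀ i, (bU i : V) ∈ Submodule.span 𝔽₂ (Set.range v) := fun i =>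
        Submodule.subset_span ⟨Sum.inl (i, false), by simp [v]⟩
      have h1' : ∀ i, s (bU i : V) ∈ Submodule.span 𝔽₂ (Set.range v) := fun i =>
        Submodule.subset_span ⟨Sum.inl (i, true), by simp [v]⟩
      have hgen : ∀ x : U, (x : V) ∈ Submodule.span 𝔽₂ (Set.range v) ∧ N (x : V) ∈ Submodule.span 𝔽₂ (Set.range v) := fun x => by
        rw [← bU.sum_repr x, Submodule.coe_sum, map_sum]
        refine ⟨Submodule.sum_mem _ fun i _ => Submodule.smul_mem _ _ (h1 i), Submodule.sum_mem _ fun i _ => ?_⟩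
        rw [Submodule.coe_smul, map_smul]
        exact Submodule.smul_mem _ _ (Submodule.add_mem _ (h1' i) (h1 i))
      exact ⟨fun x hx => (hgen ⟨x, hx⟩).1, Submodule.map_le_iff_le_comap.2 fun x hx => (hgen ⟨x, hx⟩).2⟩
    have hker : LinearMap.ker N ≤ Submodule.span 𝔽₂ (Set.range v) := fun z hz => by
      obtain ⟨p, hp, r, hr, he⟩ := Submodule.mem_sup.1 (hT'.sup_eq_top.ge (Submodule.mem_top : (⟨z, hz⟩ : LinearMap.ker N) ∈ ⊤))
      have : z = (p : V) + (r : V) := congrArg Subtype.val he.symm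
      rw [this]
      refine Submodule.add_mem _ (hUle.2 hp) ?_
      have hr' : (⟨r, hr⟩ : T') = ∑ m, bT.repr ⟨r, hr⟩ m • bT m := (bT.sum_repr _).symm
      rw [show (r : V) = (((⟨r, hr⟩ : T') : LinearMap.ker N) : V) from rfl, hr', Submodule.coe_sum, Submodule.coe_sum]
      exact Submodule.sum_mem _ fun m _ => Submodule.smul_mem _ _ (Submodule.subset_span ⟨Sum.inr m, rfl⟩)
    exact hU.sup_eq_top.ge.trans (sup_le hker hUle.1)
  refine ⟨ULift ((κ × Bool) ⊕ μ), (Module.Basis.mk hli hspan).reindex Equiv.ulift.symm, fun g i => ?_⟩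
  rcases hall g with rfl | rfl
  · exact ⟨i, by simp⟩
  · simp only [Module.Basis.reindex_apply, Equiv.symm_symm, Module.Basis.mk_apply]
    obtain ⟨(⟨j, bb⟩ | m)⟩ := i
    · refine ⟨⟨Sum.inl (j, !bb)⟩, ?_⟩
      cases bb <;> simp [v, Equiv.ulift]
      · rfl
      · exact hss _
    · refine ⟨⟨Sum.inr m⟩, ?_⟩
      have h : N ((bT m : LinearMap.ker N) : V) = 0 := (bT m : LinearMap.ker N).2
      simp only [N, LinearMap.add_apply, LinearMap.id_apply] at h
      simp only [v, Equiv.ulift_apply, Sum.elim_inr]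
      exact (eq_neg_of_add_eq_zero_left h).trans (neg_eq_of_add_eq_zero_left (h2 _))

end Groth.L11.SymSq
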